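import Cfsg.Agent.Lib.Classical.Herm.Std
import Cfsg.Prelude.Def_SporadicB

/-!
The transvections of `SU(n, 2)`, `n ≥ 4`, form a class of 3-transpositions.
-/

set_option autoImplicit false

namespace CfsgLib.UnitaryTransv

open Module CfsgLib.Classical.Herm HermSpace

variable {F : Type*} [Field F] [Fintype F]

theorem two_eq_zero (hF : Fintype.card F = 2 ^ 2) : (2 : F) = 0 := by
  have h := FiniteField.cast_card_eq_zero F
  rw [hF] at h
  push_cast at h
  exact mul_self_eq_zero.1 (show (2 : F) * 2 = 0 by linear_combination h)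

theorem pow_three (hF : Fintype.card F = 2 ^ 2) {a : F} (ha : a ≠ 0) : a ^ 3 = 1 := by
  have := FiniteField.pow_card_sub_one_eq_one a ha
  rwa [hF] at this

theorem add_self_zero (hF : Fintype.card F = 2 ^ 2) (a : F) : a + a = 0 := by
  linear_combination a * two_eq_zero hF

theorem smul_add_self_zero {V : Type*} [AddCommGroup V] [Module F V] (hF : Fintype.card F = 2 ^ 2)
    (v : V) : v + v = 0 := by
  rw [← two_smul F v, two_eq_zero hF, zero_smul]

variable {n : ℕ}

theorem shearCond_one (hF : Fintype.card F = 2 ^ 2) {v : Fin n → F}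
    (hv : (stdHerm hF n).h v v = 0) : ShearCond (stdHerm hF n) v 1 := by
  unfold ShearCond
  rw [hv, map_one, mul_zero, add_zero, add_self_zero hF]

/-- The transvection `x ↦ x + h(x,v) v`. -/
def tv (hF : Fintype.card F = 2 ^ 2) (v : Fin n → F) (hv : (stdHerm hF n).h v v = 0) :
    Unit' (stdHerm hF n) :=
  shear (stdHerm hF n) v 1 (shearCond_one hF hv)

theorem tv_apply (hF : Fintype.card F = 2 ^ 2) (v : Fin n → F) (hv : (stdHerm hF n).h v v = 0)
    (x : Fin n → F) : (tv hF v hv).1 x = x + (stdHerm hF n).h x v • v := by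
  rw [tv, shear_apply, one_mul]

theorem tv_congr (hF : Fintype.card F = 2 ^ 2) {v w : Fin n → F} (hv : (stdHerm hF n).h v v = 0)
    (hw : (stdHerm hF n).h w w = 0) (e : v = w) : tv hF v hv = tv hF w hw := by subst e; rfl

theorem tv_conj (hF : Fintype.card F = 2 ^ 2) (g : Unit' (stdHerm hF n)) (v : Fin n → F)
    (hv : (stdHerm hF n).h v v = 0) :
    g * tv hF v hv * g⁻¹ = tv hF (g.1 v) (by rw [unit_h]; exact hv) := by
  rw [tv, shear_conj]; rfl

theorem tv_smul (hF : Fintype.card F = 2 ^ 2) {v w : Fin n → F} {a : F} (ha : a ≠ 0)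
    (hv : (stdHerm hF n).h v v = 0) (hw : (stdHerm hF n).h w w = 0) (e : w = a • v) :
    tv hF w hw = tv hF v hv := by
  subst e
  refine unit_ext fun x => ?_
  have h3 := pow_three hF ha
  rw [tv_apply, tv_apply, (stdHerm hF n).smul_right, stdHerm_conj, smul_smul]
  congr 2
  linear_combination (stdHerm hF n).h x v * h3

theorem tv_sq (hF : Fintype.card F = 2 ^ 2) (v : Fin n → F) (hv : (stdHerm hF n).h v v = 0) :
    tv hF v hv * tv hF v hv = 1 := by
  refine unit_ext fun x => ?_
  rw [mul_apply, tv_apply, tv_apply, (stdHerm hF n).add_left, (stdHerm hF n).smul_left, hv, mul_zero,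
    add_zero, add_assoc, smul_add_self_zero hF, add_zero, one_apply]

theorem tv_inv (hF : Fintype.card F = 2 ^ 2) (v : Fin n → F) (hv : (stdHerm hF n).h v v = 0) :
    (tv hF v hv)⁻¹ = tv hF v hv :=
  inv_eq_of_mul_eq_one_left (tv_sq hF v hv)

theorem tv_products (hF : Fintype.card F = 2 ^ 2) (v w : Fin n → F)
    (hv : (stdHerm hF n).h v v = 0) (hw : (stdHerm hF n).h w w = 0) :
    (tv hF v hv * tv hF w hw) ^ 2 = 1 ∨ (tv hF v hv * tv hF w hw) ^ 3 = 1 := by
  set H := stdHerm hF n
  by_cases h0 : H.h w v = 0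
  · left
    have hcomm : tv hF v hv * tv hF w hw = tv hF w hw * tv hF v hv := by
      have := tv_conj hF (tv hF v hv) w hw
      rw [tv_congr hF _ hw (by rw [tv_apply, h0, zero_smul, add_zero] :
        (tv hF v hv).1 w = w)] at this
      exact mul_inv_eq_iff_eq_mul.mp this
    rw [(show Commute (tv hF v hv) (tv hF w hw) from hcomm).mul_pow, pow_two, pow_two, tv_sq, tv_sq,
      one_mul]
  · right
    have hvw : H.h v w = H.conj (H.h w v) := (H.symm' w v).symm
    have hne : H.h v w ≠ 0 := by rw [hvw]; exact H.conj_ne_zero h0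
    have e1 := tv_conj hF (tv hF v hv) w hw
    rw [tv_inv] at e1
    have e2 := tv_conj hF (tv hF w hw) v hv
    rw [tv_inv] at e2
    have key : tv hF v hv * tv hF w hw * tv hF v hv = tv hF w hw * tv hF v hv * tv hF w hw := by
      rw [e1, e2]
      refine (tv_smul hF hne _ _ ?_).symm
      rw [tv_apply, tv_apply, smul_add, smul_smul, add_comm]
      congr 1
      have h3 := pow_three hF h0
      have : H.h v w * H.h w v = 1 := by
        rw [hvw, stdHerm_conj]
        linear_combination h3
      rw [this, one_smul]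
    calc (tv hF v hv * tv hF w hw) ^ 3
        = (tv hF v hv * tv hF w hw * tv hF v hv) * (tv hF w hw * tv hF v hv * tv hF w hw) := by
          simp [pow_succ, mul_assoc]
      _ = (tv hF v hv * tv hF w hw * tv hF v hv) * (tv hF v hv * tv hF w hw * tv hF v hv) := by
          rw [← key]
      _ = 1 := by rw [e1, tv_sq]

theorem det_tv (hF : Fintype.card F = 2 ^ 2) (v : Fin n → F) (hv : (stdHerm hF n).h v v = 0) :
    detHom (stdHerm hF n) (tv hF v hv) = 1 := by
  apply Units.ext
  rw [tv, detHom_shear, hv, mul_zero, add_zero, Units.val_one]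

/-- The embedding of `SU` into the isometry group. -/
noncomputable def emb (hF : Fintype.card F = 2 ^ 2) (n : ℕ) :
    Cfsg.SU n F 2 →* Unit' (stdHerm hF n) :=
  (detHom (stdHerm hF n)).ker.subtype.comp (suEquiv hF n).toMonoidHom

theorem emb_injective (hF : Fintype.card F = 2 ^ 2) (n : ℕ) : Function.Injective (emb hF n) :=
  Subtype.val_injective.comp (suEquiv hF n).injective

theorem emb_apply (hF : Fintype.card F = 2 ^ 2) (g : Cfsg.SU n F 2) (x : Fin n → F) :
    (emb hF n g).1 x = ((g.1 : Matrix (Fin n) (Fin n) F)).mulVec x :=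
  suEquiv_apply hF n g x

theorem exists_emb_eq (hF : Fintype.card F = 2 ^ 2) (k : Unit' (stdHerm hF n))
    (hk : detHom (stdHerm hF n) k = 1) : ∃ g, emb hF n g = k :=
  ⟨(suEquiv hF n).symm ⟨k, hk⟩, by simp [emb]⟩

theorem rank_eq_one_iff (hF : Fintype.card F = 2 ^ 2) (g : Cfsg.SU n F 2) :
    (((g : Matrix.SpecialLinearGroup (Fin n) F) : Matrix (Fin n) (Fin n) F) - 1).rank = 1 ↔
      ∃ v, ∃ hv : (stdHerm hF n).h v v = 0, v ≠ 0 ∧ emb hF n g = tv hF v hv := by
  set H := stdHerm hF n with hH
  set T : (Fin n → F) →ₗ[F] (Fin n → F) :=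
    (((g : Matrix.SpecialLinearGroup (Fin n) F) : Matrix (Fin n) (Fin n) F) - 1).mulVecLin with hT
  have hTx : ∀ x, (emb hF n g).1 x = x + T x := by
    intro x
    simp [hT, emb_apply, Matrix.sub_mulVec]
  constructor
  · intro h
    obtain ⟨⟨v, x0, hx0⟩, hv0, hspan⟩ :=
      finrank_eq_one_iff'.1 (show finrank F (LinearMap.range T) = 1 from h)
    have hv0' : v ≠ 0 := fun h0 => hv0 (Subtype.ext h0)
    have hscal : ∀ x, ∃ c : F, T x = c • v := by
      intro x
      obtain ⟨c, hc⟩ := hspan ⟨T x, LinearMap.mem_range_self T x⟩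
      exact ⟨c, (congrArg Subtype.val hc).symm⟩
    have hfix : ∀ y, T y = 0 → H.h y v = 0 := by
      intro y hy
      have := unit_h_fix (emb hF n g) (x := y) (by rw [hTx, hy, add_zero]) x0
      rwa [hTx, hx0, add_sub_cancel_left] at this
    set a := H.h x0 v with ha
    have hlin : ∀ x (c : F), T x = c • v → H.h x v = c * a := by
      intro x c hc
      have := hfix (x - c • x0) (by rw [map_sub, map_smul, hx0, hc, sub_self])
      rw [H.sub_left, H.smul_left, sub_eq_zero] at this
      exact this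
    have ha0 : a ≠ 0 := by
      intro h0
      apply hv0'
      refine H.nondeg v fun y => ?_
      obtain ⟨c, hc⟩ := hscal y
      apply H.h_comm_zero
      rw [hlin y c hc, h0, mul_zero]
    have hcond : ShearCond H v a⁻¹ := by
      have h1 := unit_h (emb hF n g) x0 x0
      rw [hTx, hx0, H.add_left, H.add_right, H.add_right, ← ha, ← H.symm' x0 v, ← ha] at h1
      unfold ShearCond
      rw [map_inv₀]
      have h2 := H.conj_ne_zero ha0
      field_simp
      linear_combination h1
    have hg : emb hF n g = shear H v a⁻¹ hcond := by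
      refine unit_ext fun x => ?_
      obtain ⟨c, hc⟩ := hscal x
      rw [hTx, shear_apply, hc, hlin x c hc]
      congr 2
      field_simp
    have hdet : detHom H (emb hF n g) = 1 := ((suEquiv hF n) g).2
    have hv : H.h v v = 0 := by
      have := congrArg Units.val hdet
      rw [hg, detHom_shear, Units.val_one] at this
      exact (mul_eq_zero.1 (by linear_combination this : a⁻¹ * H.h v v = 0)).resolve_left
        (inv_ne_zero ha0)
    refine ⟨v, hv, hv0', hg.trans ?_⟩
    have h3 := pow_three hF (inv_ne_zero ha0)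
    have h4 := hcond.eq
    rw [hv, mul_zero, add_zero, stdHerm_conj] at h4
    have hc1 : a⁻¹ = 1 := by
      have h5 : a⁻¹ ^ 2 = a⁻¹ := by linear_combination h4 - a⁻¹ * two_eq_zero hF
      have h6 : a⁻¹ * (a⁻¹ - 1) = 0 := by linear_combination h5
      exact sub_eq_zero.1 ((mul_eq_zero.1 h6).resolve_left (inv_ne_zero ha0))
    refine unit_ext fun x => ?_
    rw [shear_apply, tv_apply, hc1, one_mul]
  · rintro ⟨v, hv, hv0, hg⟩
    obtain ⟨y, hy⟩ : ∃ y, H.h y v ≠ 0 := by
      by_contra hc
      simp only [not_exists, ne_eq, not_not] at hc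
      exact hv0 (H.nondeg v fun y => H.h_comm_zero (hc y))
    have hT' : ∀ x, T x = H.h x v • v := by
      intro x
      have h1 := hTx x
      rw [hg, tv_apply] at h1
      exact (add_left_cancel h1).symm
    have hrange : LinearMap.range T = Submodule.span F {v} := by
      apply le_antisymm
      · rintro _ ⟨x, rfl⟩
        rw [hT']
        exact Submodule.smul_mem _ _ (Submodule.mem_span_singleton_self v)
      · rw [Submodule.span_singleton_le_iff_mem]
        refine ⟨(H.h y v)⁻¹ • y, ?_⟩
        rw [hT', H.smul_left, inv_mul_cancel₀ hy, one_smul]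
    show finrank F (LinearMap.range T) = 1
    rw [hrange, finrank_span_singleton hv0]

theorem isThreeTranspositionClass_su (hF : Fintype.card F = 2 ^ 2) (hn : 4 ≤ n) :
    Cfsg.IsThreeTranspositionClass {g : ↥(Cfsg.SU n F 2) |
      (((g : Matrix.SpecialLinearGroup (Fin n) F) : Matrix (Fin n) (Fin n) F) - 1).rank = 1} := by
  set S := {g : ↥(Cfsg.SU n F 2) |
      (((g : Matrix.SpecialLinearGroup (Fin n) F) : Matrix (Fin n) (Fin n) F) - 1).rank = 1} with hS
  set f := emb hF n
  have hinj : Function.Injective f := emb_injective hF n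
  have hmem : ∀ g, g ∈ S ↔ ∃ v, ∃ hv : (stdHerm hF n).h v v = 0, v ≠ 0 ∧ f g = tv hF v hv :=
    rank_eq_one_iff hF
  obtain ⟨e₁, e₂, p⟩ := exists_pair_std hF (show 3 ≤ n by omega)
  have hB := big_std hF (show 3 ≤ n by omega)
  have hP := perfectable_std hF (show 3 ≤ n by omega) (by omega)
  refine ⟨⟨fun d hd => ?_, fun a ha b hb => ?_⟩, ?_, ?_⟩
  · obtain ⟨v, hv, -, hd'⟩ := (hmem d).1 hd
    rw [orderOf_eq_iff two_pos]
    refine ⟨hinj ?_, fun m hm hm0 h1 => ?_⟩
    · rw [map_pow, map_one, hd', pow_two, tv_sq]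
    · obtain rfl : m = 1 := by omega
      rw [pow_one] at h1
      subst h1
      simp only [hS, Set.mem_setOf_eq, OneMemClass.coe_one, Matrix.SpecialLinearGroup.coe_one,
        sub_self, Matrix.rank_zero] at hd
      exact absurd hd (by decide)
  · obtain ⟨v, hv, -, ha'⟩ := (hmem a).1 ha
    obtain ⟨w, hw, -, hb'⟩ := (hmem b).1 hb
    rcases tv_products hF v w hv hw with h | h
    · exact Or.inl (hinj (by rw [map_pow, map_mul, map_one, ha', hb', h]))
    · exact Or.inr (hinj (by rw [map_pow, map_mul, map_one, ha', hb', h]))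
  · obtain ⟨d, hd⟩ := exists_emb_eq hF (tv hF e₁ p.1) (det_tv hF _ _)
    refine ⟨d, (hmem d).2 ⟨e₁, p.1, p.left_ne_zero, hd⟩, Set.ext fun x => ⟨fun hx => ?_, fun hx => ?_⟩⟩
    · obtain ⟨w, hw, hw0, hx'⟩ := (hmem x).1 hx
      obtain ⟨k, hk, hkv⟩ := rootGen_transitive hB p.1 p.left_ne_zero hw hw0
      obtain ⟨g, hg⟩ := exists_emb_eq hF k (MonoidHom.mem_ker.1 (rootGen_le_ker_det hk))
      refine isConj_iff.2 ⟨g, hinj ?_⟩
      show f (g * d * g⁻¹) = f x
      rw [map_mul, map_mul, map_inv, hd, hx', hg, tv_conj]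
      exact tv_congr hF _ _ hkv
    · obtain ⟨c, rfl⟩ := isConj_iff.1 hx
      refine (hmem _).2 ⟨(f c).1 e₁, by rw [unit_h, p.1], unit_ne_zero _ p.left_ne_zero, ?_⟩
      rw [map_mul, map_mul, map_inv, hd, tv_conj]
  · apply Subgroup.map_injective (f := f) hinj
    have hrange : (⊤ : Subgroup _).map f = rootGen (stdHerm hF n) := by
      rw [rootGen_std hF (by omega), ← MonoidHom.range_eq_map]
      ext k
      exact ⟨fun ⟨g, hg⟩ => hg ▸ ((suEquiv hF n) g).2, fun hk => exists_emb_eq hF k hk⟩
    refine le_antisymm (Subgroup.map_mono le_top) ?_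
    rw [hrange, ← closure_transvectionSet hB hP p, Subgroup.closure_le]
    rintro _ ⟨v, c, hc, hv, rfl⟩
    by_cases h0 : c • v = 0
    · have : shear (stdHerm hF n) v c hc = 1 := unit_ext fun x => by
        rw [shear_apply, mul_comm, mul_smul, h0, smul_zero, add_zero, one_apply]
      rw [this]; exact one_mem _
    · obtain ⟨hc0, hv0⟩ := smul_ne_zero_iff.1 h0
      have h3 := pow_three hF hc0
      have h4 := hc.eq
      rw [hv, mul_zero, add_zero, stdHerm_conj] at h4
      have hc1 : c = 1 := by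
        have h5 : c ^ 2 = c := by linear_combination h4 - c * two_eq_zero hF
        exact mul_left_cancel₀ hc0 (by rw [mul_one, ← pow_two, h5])
      subst hc1
      obtain ⟨g, hg⟩ := exists_emb_eq hF (tv hF v hv) (det_tv hF v hv)
      exact ⟨g, Subgroup.subset_closure ((hmem g).2 ⟨v, hv, hv0, hg⟩), hg⟩

end CfsgLib.UnitaryTransv
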